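/-
Certificate data of a coset enumeration.
-/
import Cfsg.Agent.Lib.CosetEnum.Fi23D.Data

set_option autoImplicit false
set_option maxRecDepth 1000000

namespace CfsgLib.CosetEnum.Fi23D

open CfsgLib.CosetEnum

/-- Justifications of the facts from 0. -/
def just0 : List ℕ := [0x0, 0x1, 0x2, 0x3, 0x4, 0xfff, 0x5000050020010000000101e, 0x1000050000500200100000001022, 0x2000050000500200100000001025, 0x4000050000500200100000001018, 0xfff, 0x60000a0000a0020010000100101d, 0x70000a0000a00200100001001021, 0x500003000050000a0000a00400100001001015, 0x90000a0000a00200100001001016, 0xfff, 0xb0000f0000f0020010000200101c, 0xa000080000a0000f0000f00400100002001011, 0xd0000f0000f00200100002001012, 0xfff, 0xf0000c0000f00013000130040010000300100c, 0x1100013000130020010000300100d, 0x1200013000130020010000300100e, 0xfff, 0x1000017000170020010000300101f, 0xf0000e0000f000170001700400100003001026, 0x11000170001700200100003001028, 0x12000170001700200100003001029, 0xfff, 0x1300010000130001c0001c00400100004001006, 0x140001c0001c00200100004001007, 0x150001c0001c00200100004001008, 0x160001c0001c00200100004001009, 0xfff, 0x13000170002100200100004001023, 0x15000210002100200100004001028, 0x16000210002100200100004001029,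 0xfff, 0x1c00021000250020010000600101f, 0x1d000250002500200100006001023, 0x1f000250002500200100006001028, 0x20000250002500200100006001029, 0xfff, 0x2200019000220002a0002a00400100007001020, 0x240002a0002a00200100007001012, 0x2100014000210002a0002a00400100007001013, 0xfff, 0x260002a0002e0020010000800101c, 0x290002e0002e00200100008001012, 0x250001e000250002e0002e00400100008001013, 0xfff, 0x2b000320003200200100009001021, 0x2a000230002a000320003200400100009001024, 0x2d000320003200200100009001016, 0xfff, 0x2f0002b0002f00036000360040010000a00101b, 0x2e000270002e00036000360040010000a00100c, 0x3000036000360020010000a00100e, 0x3100036000360020010000a00100f, 0xfff, 0x2f000320003b0020010000a00101d, 0x2e000280002e0003b0003b0040010000a001024, 0x310003b0003b0020010000a001016, 0xfff, 0x330003f0003f0020010000b001022, 0x340003f0003f0020010000b001025, 0x320002c000320003f0003f0040010000b001027, 0x350003f0003f0020010000b001018, 0xfff, 0x3700044000440020010000c00101d, 0x360003b000440020010000c001021, 0x3a00044000440020010000c001016, 0xfff, 0x3c0003f000480020010000d00101e, 0x3d00048000480020010000d001025, 0x3b000300003b00048000480040010000d001027, 0x3e00048000480020010000d001018, 0xfff, 0x450004d0004d0020010000f00101c,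 0x460003d000460004d0004d0040010000f001020, 0x4400038000440004d0004d0040010000f001011, 0xfff, 0x4500051000510020010000f00101e, 0x4600048000510020010000f001022, 0x44000390004400051000510040010000f001027, 0x4700051000510020010000f001018, 0xfff, 0x4e00056000560020010001100101e, 0x4f000560005600200100011001022, 0x4d000510005600200100011001025, 0xfff, 0x4e0005a0005a0020010001100101f, 0x4f0005a0005a00200100011001023, 0x4d000470004d0005a0005a00400100011001026, 0x500005a0005a00200100011001028, 0xfff, 0x570005f0005f0020010001300101d, 0x580005f0005f00200100013001021, 0x5900054000590005f0005f00400100013001024, 0x5600050000560005f0005f00400100013001015, 0xfff, 0x5700064000640020010001300101f, 0x58000640006400200100013001023, 0x590005500059000640006400400100013001026, 0x560005a0006400200100013001029, 0xfff, 0x6000069000690020010001500101f, 0x61000690006900200100015001023, 0x5f000640006900200100015001028, 0x63000690006900200100015001029, 0xfff, 0x6a0006e0006e0020010001700101c, 0x6c000670006c0006e0006e00400100017001011, 0x6d0006e0006e00200100017001012, 0x6900062000690006e0006e00400100017001013, 0xfff, 0x6e0006b0006e00073000730040010001800100c, 0x7000073000730020010001800100d, 0x7100073000730020010001800100e,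 0x7200073000730020010001800100f, 0xfff, 0x730006f00073000780007800400100019001006, 0x74000780007800200100019001007, 0x75000780007800200100019001008, 0x76000780007800200100019001009, 0x7700078000780020010001900100a]

theorem just0_ok : data.okChunk 0 just0 = true := by decide +kernel

theorem just0_len : just0.length = 126 := by decide +kernel

end CfsgLib.CosetEnum.Fi23D
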