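/-
Certificate data of a coset enumeration.
-/
import Cfsg.Agent.Lib.CosetEnum.Fi23D.Data

set_option autoImplicit false
set_option maxRecDepth 1000000

namespace CfsgLib.CosetEnum.Fi23D

open CfsgLib.CosetEnum

/-- Completion of the rows from 0. -/
def rows0 : List (List ℕ) := [[0x1, 0x1001, 0x2001, 0x3001, 0x5001, 0x4001], [0x6001, 0x7001, 0x8001, 0xa001, 0x5001, 0x9001], [0xb001, 0xc001, 0xf001, 0xa001, 0xd001, 0xe001], [0x10001, 0x13001, 0xf001, 0x11001, 0x12001, 0x17001], [0x1c001, 0x13001, 0x14001, 0x15001, 0x16001, 0x21001], [0x18001, 0x22001, 0x19001, 0x1a001, 0x1b001, 0x17001], [0x1c001, 0x1d001, 0x1e001, 0x1f001, 0x20001, 0x25001], [0x26001, 0x22001, 0x2a001, 0x23001, 0x24001, 0x21001], [0x26001, 0x27001, 0x2e001, 0x28001, 0x29001, 0x25001], [0x2f001, 0x2b001, 0x2a001, 0x32001, 0x2c001, 0x2d001], [0x2f001, 0x36001, 0x2e001, 0x3b001, 0x30001, 0x31001], [0x3c001, 0x33001, 0x34001, 0x32001, 0x3f001, 0x35001],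 [0x37001, 0x36001, 0x38001, 0x44001, 0x39001, 0x3a001], [0x3c001, 0x46001, 0x3d001, 0x3b001, 0x48001, 0x3e001], [0x49001, 0x40001, 0x41001, 0x42001, 0x3f001, 0x43001], [0x45001, 0x46001, 0x4d001, 0x44001, 0x51001, 0x47001], [0x49001, 0x53001, 0x4a001, 0x4b001, 0x48001, 0x4c001], [0x4e001, 0x4f001, 0x4d001, 0x50001, 0x56001, 0x5a001], [0x52001, 0x53001, 0x59001, 0x54001, 0x51001, 0x55001], [0x57001, 0x58001, 0x59001, 0x5f001, 0x56001, 0x64001], [0x5b001, 0x5c001, 0x5d001, 0x5e001, 0x68001, 0x5a001], [0x60001, 0x61001, 0x62001, 0x5f001, 0x63001, 0x69001], [0x65001, 0x66001, 0x67001, 0x6c001, 0x68001, 0x64001], [0x6a001, 0x6b001, 0x6e001, 0x6c001, 0x6d001, 0x69001], [0x6f001, 0x73001, 0x6e001, 0x70001, 0x71001, 0x72001], [0x78001, 0x73001, 0x74001, 0x75001, 0x76001, 0x77001], [0x78001, 0x79001, 0x7a001, 0x7b001, 0x7c001, 0x7d001]]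

theorem rows0_ok : okRows data table 126 0 rows0 = true := by decide +kernel

theorem rows0_len : rows0.length = 27 := by decide +kernel

end CfsgLib.CosetEnum.Fi23D
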